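import Groth.Agent.EtAcyc.K127.TreeBlow
import Groth.Agent.EtAcyc.K361.TreeConv
import Groth.Agent.Ega1.ReducedSub

/-!
# Relative tree certificates for schemes of finite type over an algebraically closed field

* `isIntegral_subscheme`: the reduced closed subscheme on an irreducible closed subset is integral.
* `tree_of_strong`: relative certificates for all schemes of finite type from strong certificates of the integral ones.
-/

set_option autoImplicit false
universe u

open CategoryTheory CategoryTheory.Limits AlgebraicGeometry TopologicalSpace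

namespace K513.TreeGen

open K153.TreeDef

/-- The reduced closed subscheme on an irreducible closed subset is integral. -/
theorem isIntegral_subscheme {X : Scheme.{u}} (Z : Closeds X) (h : IsIrreducible (Z : Set X)) :
    IsIntegral (Scheme.IdealSheafData.vanishingIdeal Z).subscheme := by
  have h0 := Groth.Agent.Ega1.ReducedSub.isReduced_subscheme_vanishingIdeal Z
  have h1 : IsIrreducible (Set.range (Scheme.IdealSheafData.vanishingIdeal Z).subschemeι) := by
    rw [Scheme.IdealSheafData.range_subschemeι, Scheme.IdealSheafData.coe_support_vanishingIdeal]; exact h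
  have h2 := Subtype.irreducibleSpace h1
  let e := (Scheme.IdealSheafData.vanishingIdeal Z).subschemeι.isEmbedding.toHomeomorph
  have : Nonempty (Scheme.IdealSheafData.vanishingIdeal Z).subscheme := ⟨e.symm ⟨_, h1.nonempty.some_mem⟩⟩
  have h3 : IrreducibleSpace (Scheme.IdealSheafData.vanishingIdeal Z).subscheme := e.isOpenEmbedding.irreducibleSpace
  exact isIntegral_of_irreducibleSpace_of_isReduced _

/-- The range of the inclusion. -/
theorem range_subschemeι {X : Scheme.{u}} (Z : Closeds X) :
    Set.range (Scheme.IdealSheafData.vanishingIdeal Z).subschemeι = (Z : Set X) := by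
  rw [Scheme.IdealSheafData.range_subschemeι, Scheme.IdealSheafData.coe_support_vanishingIdeal]

/-- **TREE-GEN.** -/
theorem tree_of_strong {K : Type u} [Field K] [IsAlgClosed K]
    (hS : ∀ (X : Scheme.{u}) [IsIntegral X] (p : X ⟶ Spec (CommRingCat.of K)) [LocallyOfFiniteType p]
      [QuasiCompact p] (V : X.Opens), (V : Set X).Nonempty → STree X V)
    (X : Scheme.{u}) (p : X ⟶ Spec (CommRingCat.of K)) [LocallyOfFiniteType p] [QuasiCompact p] (V : X.Opens) :
    Tree (Spec (CommRingCat.of K)) X p V := by
  classical
  have hln : IsLocallyNoetherian X := LocallyOfFiniteType.isLocallyNoetherian p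
  have hc : CompactSpace X := QuasiCompact.compactSpace_of_compactSpace p
  have hN : IsNoetherian X := {}
  -- the irreducible components meeting `V`
  set C : Set (Set X) := {Z | Z ∈ irreducibleComponents X ∧ ((V : Set X) ∩ Z).Nonempty} with hC
  have hfin : C.Finite := (NoetherianSpace.finite_irreducibleComponents (α := X)).subset fun Z hZ => hZ.1
  let e : Fin hfin.toFinset.card ≃ hfin.toFinset := hfin.toFinset.equivFin.symm
  have hmem : ∀ a, ((e a : Set X) ∈ C) := fun a => hfin.mem_toFinset.1 (e a).2
  let Z : Fin hfin.toFinset.card → Closeds X := fun a =>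
    ⟨(e a : Set X), isClosed_of_mem_irreducibleComponents _ (hmem a).1⟩
  have hirr : ∀ a, IsIrreducible ((Z a : Closeds X) : Set X) := fun a => (hmem a).1.1
  refine Tree.proper p V (fun a => (Scheme.IdealSheafData.vanishingIdeal (Z a)).subscheme)
    (fun a => (Scheme.IdealSheafData.vanishingIdeal (Z a)).subschemeι) (fun a => inferInstance) ?_ fun a => ?_
  · intro x hx
    have hxC : irreducibleComponent x ∈ C := ⟨irreducibleComponent_mem_irreducibleComponents x, x, hx, mem_irreducibleComponent⟩
    refine ⟨e.symm ⟨_, hfin.mem_toFinset.2 hxC⟩, ?_⟩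
    rw [range_subschemeι]
    change x ∈ (e (e.symm ⟨_, hfin.mem_toFinset.2 hxC⟩) : Set X)
    rw [Equiv.apply_symm_apply]
    exact mem_irreducibleComponent
  · have hint := isIntegral_subscheme (Z a) (hirr a)
    set i := (Scheme.IdealSheafData.vanishingIdeal (Z a)).subschemeι with hi
    have hlft : LocallyOfFiniteType (i ≫ p) := inferInstance
    have hqc : QuasiCompact (i ≫ p) := inferInstance
    have hln' : IsLocallyNoetherian (Scheme.IdealSheafData.vanishingIdeal (Z a)).subscheme :=
      LocallyOfFiniteType.isLocallyNoetherian (i ≫ p)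
    have hc' : CompactSpace (Scheme.IdealSheafData.vanishingIdeal (Z a)).subscheme :=
      QuasiCompact.compactSpace_of_compactSpace (i ≫ p)
    have hN' : IsNoetherian (Scheme.IdealSheafData.vanishingIdeal (Z a)).subscheme := {}
    have hne : ((i ⁻¹ᵁ V : (Scheme.IdealSheafData.vanishingIdeal (Z a)).subscheme.Opens) :
        Set (Scheme.IdealSheafData.vanishingIdeal (Z a)).subscheme).Nonempty := by
      obtain ⟨x, hxV, hxZ⟩ := (hmem a).2
      have hx : x ∈ Set.range i := by
        rw [hi, range_subschemeι]
        exact hxZ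
      obtain ⟨y, rfl⟩ := hx
      exact ⟨y, hxV⟩
    obtain ⟨X₁, hX₁, b, hb, hs, hL, hne₁⟩ := K127.TreeBlow.blow (i ⁻¹ᵁ V) hne
    refine Tree.proper (k := 1) (i ≫ p) (i ⁻¹ᵁ V) (fun _ => X₁) (fun _ => b) (fun _ => hb)
      (fun x _ => ⟨0, hs.surj x⟩) fun _ => ?_
    exact K361.TreeConv.conv (hS X₁ (b ≫ i ≫ p) (b ⁻¹ᵁ (i ⁻¹ᵁ V)) hne₁) (b ≫ i ≫ p) hL

end K513.TreeGen
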